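import Groth.Agent.TMul.Pullback
import Groth.Prelude.Def_FlatMod2
import Mathlib.CategoryTheory.Idempotents.Basic
import Mathlib.Algebra.Category.ModuleCat.Basic
import Mathlib.RingTheory.Finiteness.Projective

/-!
Direct summands of finite free modules correspond to finite projective modules over the global sections.
-/

set_option autoImplicit false
set_option backward.isDefEq.respectTransparency false

universe u

open CategoryTheory CategoryTheory.Limits AlgebraicGeometry TopologicalSpace

noncomputable section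

namespace Groth.Agent.RetractEquiv

variable (X : Scheme.{u})

/-- summands of finite free modules -/
abbrev IsRetractFree : ObjectProperty X.Modules :=
  fun M => ∃ (n : ℕ) (i : M ⟶ FlatMod.freeMod X n) (r : FlatMod.freeMod X n ⟶ M), i ≫ r = 𝟙 M

variable {X} {M N : X.Modules} {n : ℕ}

/-- the linear map on global sections -/
def glin (φ : M ⟶ N) : Γ(M, ⊤) →ₗ[Γ(X, ⊤)] Γ(N, ⊤) where
  toFun := φ.app ⊤
  map_add' := map_add _
  map_smul' c x := φ.app_smul c x

theorem glin_comp {P : X.Modules} (φ : M ⟶ N) (ψ : N ⟶ P) : glin (φ ≫ ψ) = (glin ψ).comp (glin φ) :=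
  LinearMap.ext fun x => by simp [glin, Scheme.Modules.Hom.comp_app]

theorem glin_id : glin (𝟙 M) = LinearMap.id := LinearMap.ext fun x => by simp [glin]

theorem glin_sum {ι : Type} [Fintype ι] (φ : ι → (M ⟶ N)) (x : Γ(M, ⊤)) :
    glin (∑ i, φ i) x = ∑ i, glin (φ i) x := by
  let ev : (M ⟶ N) →+ Γ(N, ⊤) := AddMonoidHom.mk' (fun φ => φ.app ⊤ x) fun a b => by simp
  exact map_sum ev φ _

/-- the standard section -/
def bas (j : Fin n) : Γ(FlatMod.freeMod X n, ⊤) :=
  glin (Sigma.ι (fun _ : Fin n => Coh.structureModule X) j) (show Γ(X, ⊤) from 1)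

open Classical in
/-- the projections -/
def proj (i : Fin n) : FlatMod.freeMod X n ⟶ Coh.structureModule X :=
  Sigma.desc fun j => if j = i then 𝟙 _ else 0

theorem proj_bas (i j : Fin n) :
    glin (proj i) (bas (X := X) j) = if j = i then (show Γ(X, ⊤) from 1) else 0 := by
  classical
  rw [bas, ← LinearMap.comp_apply, ← glin_comp, proj, Sigma.ι_desc]
  split
  · rw [glin_id]; rfl
  · simp [glin]

theorem sum_proj (x : Γ(FlatMod.freeMod X n, ⊤)) :
    ∑ i, (show Γ(X, ⊤) from glin (proj i) x) • bas i = x := by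
  classical
  have h : ∑ i, proj i ≫ Sigma.ι (fun _ : Fin n => Coh.structureModule X) i = 𝟙 (FlatMod.freeMod X n) := by
    refine Sigma.hom_ext _ _ fun j => ?_
    rw [Preadditive.comp_sum, Category.comp_id, Finset.sum_eq_single j]
    · simp [proj]
    · intro i _ hi
      simp [proj, Ne.symm hi]
    · simp
  conv_rhs => rw [← LinearMap.id_apply (R := Γ(X, ⊤)) x, ← glin_id, ← h, glin_sum]
  refine Finset.sum_congr rfl fun i _ => ?_
  rw [glin_comp, LinearMap.comp_apply, bas, ← map_smul]
  exact congrArg _ (mul_one (M := Γ(X, ⊤)) _)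

/-- global sections of the free module -/
def coordEquiv : Γ(FlatMod.freeMod X n, ⊤) ≃ₗ[Γ(X, ⊤)] (Fin n → Γ(X, ⊤)) where
  toFun x i := glin (proj i) x
  invFun c := ∑ i, c i • bas i
  map_add' x y := funext fun i => map_add (glin (proj i)) x y
  map_smul' c x := funext fun i => map_smul (glin (proj i)) c x
  left_inv x := sum_proj x
  right_inv c := funext fun i => by
    classical
    show glin (proj i) (∑ j, c j • bas j) = c i
    rw [map_sum, Finset.sum_eq_single i]
    · rw [map_smul, proj_bas, if_pos rfl]; exact mul_one (M := Γ(X, ⊤)) _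
    · intro j _ hj
      rw [map_smul, proj_bas, if_neg hj, smul_zero]
    · simp

theorem hom_ext_free {φ ψ : FlatMod.freeMod X n ⟶ N} (h : glin φ = glin ψ) : φ = ψ := by
  refine Sigma.hom_ext _ _ fun j => TMul.hom_ext_val ?_
  exact LinearMap.congr_fun h (bas j)

/-- the map out of the free module -/
def freeDesc (g : Γ(FlatMod.freeMod X n, ⊤) →ₗ[Γ(X, ⊤)] Γ(N, ⊤)) : FlatMod.freeMod X n ⟶ N :=
  Sigma.desc fun j => TMul.homOf (g (bas j))

theorem glin_freeDesc (g : Γ(FlatMod.freeMod X n, ⊤) →ₗ[Γ(X, ⊤)] Γ(N, ⊤)) : glin (freeDesc g) = g := by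
  refine LinearMap.ext fun x => ?_
  have hb : ∀ j, glin (freeDesc g) (bas j) = g (bas j) := fun j => by
    rw [bas, ← LinearMap.comp_apply, ← glin_comp, freeDesc, Sigma.ι_desc]
    exact (TMul.val_homOf _ ⊤).trans (QC.res_self _ _ _)
  rw [← sum_proj x, map_sum, map_sum]
  exact Finset.sum_congr rfl fun i _ => by rw [map_smul, map_smul, hb]

theorem finite_projective (h : IsRetractFree X M) :
    Module.Finite Γ(X, ⊤) Γ(M, ⊤) ∧ Module.Projective Γ(X, ⊤) Γ(M, ⊤) := by
  obtain ⟨n, i, r, hir⟩ := h
  let R : (Fin n → Γ(X, ⊤)) →ₗ[Γ(X, ⊤)] Γ(M, ⊤) := (glin r).comp coordEquiv.symm.toLinearMap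
  let I : Γ(M, ⊤) →ₗ[Γ(X, ⊤)] (Fin n → Γ(X, ⊤)) := coordEquiv.toLinearMap.comp (glin i)
  have h' : R.comp I = LinearMap.id := LinearMap.ext fun x => by
    simp only [R, I, LinearMap.comp_apply, LinearEquiv.coe_coe, LinearEquiv.symm_apply_apply]
    rw [← LinearMap.comp_apply, ← glin_comp, hir, glin_id]
  exact ⟨Module.Finite.of_surjective R fun x => ⟨I x, LinearMap.congr_fun h' x⟩,
    Module.Projective.of_split I R h'⟩

variable (X)

/-- global sections -/
def sectionsFunctor : (ObjectProperty.FullSubcategory (IsRetractFree X)) ⥤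
    ObjectProperty.FullSubcategory fun N : ModuleCat.{u} Γ(X, ⊤) =>
      Module.Finite Γ(X, ⊤) N ∧ Module.Projective Γ(X, ⊤) N where
  obj M := ⟨ModuleCat.of Γ(X, ⊤) Γ(M.obj, ⊤), finite_projective M.property⟩
  map φ := ObjectProperty.homMk (ModuleCat.ofHom (glin φ.hom))
  map_id M := by ext x; exact LinearMap.congr_fun (glin_id (M := M.obj)) x
  map_comp φ ψ := by ext x; exact LinearMap.congr_fun (glin_comp φ.hom ψ.hom) x

instance : (sectionsFunctor X).Faithful where
  map_injective {M N} φ ψ h := by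
    obtain ⟨n, i, r, hir⟩ := M.property
    have h' : glin φ.hom = glin ψ.hom := congrArg (fun q => q.hom.hom) h
    have e : r ≫ φ.hom = r ≫ ψ.hom := hom_ext_free (by rw [glin_comp, glin_comp, h'])
    have := congrArg (i ≫ ·) e
    simp only [← Category.assoc, hir, Category.id_comp] at this
    exact ObjectProperty.hom_ext _ this

instance : (sectionsFunctor X).Full where
  map_surjective {M N} g := by
    obtain ⟨n, i, r, hir⟩ := M.property
    let g' : Γ(M.obj, ⊤) →ₗ[Γ(X, ⊤)] Γ(N.obj, ⊤) := g.hom.hom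
    refine ⟨ObjectProperty.homMk (i ≫ freeDesc (g'.comp (glin r))), ?_⟩
    ext x
    show glin (i ≫ freeDesc (g'.comp (glin r))) x = g' x
    rw [glin_comp, glin_freeDesc]
    show g' (((glin r).comp (glin i)) x) = g' x
    rw [← glin_comp, hir, glin_id]
    rfl

instance : (sectionsFunctor X).EssSurj where
  mem_essImage N := by
    obtain ⟨hf, hp⟩ := N.property
    obtain ⟨n, s, hs⟩ := Module.Finite.exists_fin' Γ(X, ⊤) N.obj
    obtain ⟨t, ht⟩ := Module.projective_lifting_property s LinearMap.id hs
    let s' : Γ(FlatMod.freeMod X n, ⊤) →ₗ[Γ(X, ⊤)] N.obj := s.comp coordEquiv.toLinearMap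
    let t' : N.obj →ₗ[Γ(X, ⊤)] Γ(FlatMod.freeMod X n, ⊤) := coordEquiv.symm.toLinearMap.comp t
    have hst : ∀ y, s' (t' y) = y := fun y => by
      show s (coordEquiv (coordEquiv.symm (t y))) = y
      rw [LinearEquiv.apply_symm_apply]
      exact LinearMap.congr_fun ht y
    let p := freeDesc (t'.comp s')
    have hp2 : p ≫ p = p := hom_ext_free (by
      rw [glin_comp, glin_freeDesc]
      exact LinearMap.ext fun x => congrArg t' (hst (s' x)))
    obtain ⟨M, i, r, hir, hri⟩ := CategoryTheory.IsIdempotentComplete.idempotents_split _ p hp2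
    have hi : ∀ x, t' (s' (glin i x)) = glin i x := fun x => by
      have : glin p (glin i x) = glin i x := by
        rw [← LinearMap.comp_apply, ← glin_comp, ← hri, ← Category.assoc, hir, Category.id_comp]
      rwa [show glin p = t'.comp s' from glin_freeDesc _] at this
    let e : Γ(M, ⊤) ≃ₗ[Γ(X, ⊤)] N.obj :=
      { s'.comp (glin i) with
        invFun := (glin r).comp t'
        left_inv := fun x => by
          show glin r (t' (s' (glin i x))) = x
          rw [hi, ← LinearMap.comp_apply, ← glin_comp, hir, glin_id]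
          rfl
        right_inv := fun y => by
          have e2 : glin i (glin r (t' y)) = t' (s' (t' y)) := by
            rw [← LinearMap.comp_apply, ← glin_comp, hri]
            exact LinearMap.congr_fun (glin_freeDesc _) (t' y)
          exact (congrArg s' e2).trans ((congrArg s' (congrArg t' (hst y))).trans (hst y)) }
    exact ⟨⟨M, n, i, r, hir⟩, ⟨ObjectProperty.isoMk _ e.toModuleIso⟩⟩

theorem nonempty_equivalence : Nonempty (ObjectProperty.FullSubcategory (IsRetractFree X) ≌
    ObjectProperty.FullSubcategory fun N : ModuleCat.{u} Γ(X, ⊤) =>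
      Module.Finite Γ(X, ⊤) N ∧ Module.Projective Γ(X, ⊤) N) := by
  haveI : (sectionsFunctor X).IsEquivalence := {}
  exact ⟨(sectionsFunctor X).asEquivalence⟩

end Groth.Agent.RetractEquiv
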